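import Cfsg.Agent.H177.OM.GTwoCross
import Cfsg.Agent.H177.OM.TDFour
import Cfsg.Agent.H563.KG.Elim
import Cfsg.Agent.H563.KG.RedW
import Cfsg.Agent.H56.Exc.Full
import Cfsg.Agent.H56.Exc.BigRows
import Cfsg.Agent.H325.Same.ExcF4

/-!
# TEAM ODDM (S4785): subgroups of odd index of `G₂(q)`, `q` odd, containing the tori of the classes 3 and 6

* `ident_G2` : the simple normal subgroup;
* `k_g2_odd` : a subgroup of odd index of `G₂(q)`, whose index is prime to the primitive prime divisors of `q^3 - 1` and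
  `q^6 - 1`, is `⊤`.
-/

set_option autoImplicit false

namespace Cfsg.Agent.H177.OM

open Cfsg Cfsg.Agent.OrdDiv Cfsg.Agent.H436 Cfsg.Agent.H902 Cfsg.Agent.H902.Names Cfsg.Agent.H915.GN
  Cfsg.Agent.H290.ElReg Cfsg.Agent.H290.ElTab Cfsg.Agent.H290.ElCross Cfsg.Agent.H264.FKS Cfsg.Agent.H563.KG
  Cfsg.Agent.H56.Exc Cfsg.Lie Cfsg.Agent.H325.Loc

variable {p f q : ℕ}

theorem og_eq (q : ℕ) : num (.g2 q) = og q := rfl

/-- the order of `PSL₂` -/
theorem psl2_ord {Q : ℕ} (hQ : 2 ≤ Q) (hodd : ¬ 2 ∣ Q) {S : Type} [Group S] (h : IsNamed (.psl 2 Q) S) :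
    2 * Nat.card S = Q * (Q ^ 2 - 1) := by
  have h1 := h.eq
  have h2 : den (.psl 2 Q) = Nat.gcd 2 (Q - 1) * (Q - 1) := rfl
  have h3 : num (.psl 2 Q) = (Q ^ 2 - 1) * (Q ^ 2 - Q) := by
    show glN 2 Q = _
    simp [glN, List.range_succ]
  have h4 : Nat.gcd 2 (Q - 1) = 2 := Nat.gcd_eq_left (by omega)
  rw [h2, h3, h4] at h1
  have h5 : Q ^ 2 - Q = (Q - 1) * Q := by rw [Nat.sub_mul, one_mul, sq]
  rw [h5] at h1
  have h6 : 0 < Q - 1 := by omega
  apply Nat.eq_of_mul_eq_mul_left h6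
  calc (Q - 1) * (2 * Nat.card S) = 2 * (Q - 1) * Nat.card S := by ring
    _ = (Q ^ 2 - 1) * ((Q - 1) * Q) := h1
    _ = (Q - 1) * (Q * (Q ^ 2 - 1)) := by ring

/-- **The identification of the simple group.** -/
theorem ident_G2 (tb : OrderTable.{0}) (hp : p.Prime) (hp2 : p ≠ 2) (hf : 1 ≤ f) {F : Type} [Field F] [CharP F p]
    {S : Type} [Group S] [Finite S] [IsSimpleGroup S] (hna : ¬ IsMulCommutative S) (hK : IsKnownSimple' S)
    (hrep : Fth 14 F S)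
    (hbig : ∀ r, Prim (p ^ f) 3 r ∨ Prim (p ^ f) 6 r → (∀ x : S, orderOf x = r → IsCyclic ↥(Subgroup.centralizer {x})) ∧
      r ∣ Nat.card S)
    (ha : n3 (p ^ f) ∣ Nat.card S) (hb : n6 (p ^ f) ∣ Nat.card S) (h32 : 32 ∣ Nat.card S)
    (hd : Nat.card S ∣ og (p ^ f)) :
    Nat.card S = og (p ^ f) ∨ 2 * Nat.card S = (p ^ f) ^ 3 * ((p ^ f) ^ 6 - 1) := by
  have hna' : ¬ ∀ a b : S, a * b = b * a := fun h => hna ⟨⟨h⟩⟩
  have hp3 : 3 ≤ p := by have := hp.two_le; omega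
  have hq3 : 3 ≤ p ^ f := hp3.trans (Nat.le_self_pow (by omega) p)
  have hq2 : 2 ≤ p ^ f := by omega
  have hodd : ¬ 2 ∣ p ^ f := fun h =>
    hp2 ((Nat.prime_dvd_prime_iff_eq Nat.prime_two hp).1 (Nat.prime_two.dvd_of_dvd_pow h)).symm
  have hab := mul_dvd ha hb
  obtain ⟨r, hr⟩ := exists_prim hq2 (show 3 ≤ 3 by omega) (by omega)
  obtain ⟨s, hs⟩ := exists_prim hq2 (show 3 ≤ 6 by omega) (by omega)
  obtain ⟨g, hgS⟩ := exists_named tb hK hna'
  rcases Cfsg.Agent.H192.Singer.cases_name hgS.cond with ⟨m, rfl⟩ | hsp | ⟨l, hl, hch⟩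
  · exfalso
    obtain ⟨Φ⟩ : Nonempty (S ≃* alternatingGroup (Fin m)) := hgS.real
    have hm : 5 ≤ m := hgS.cond
    have hnil : ∀ r, Prim (p ^ f) 3 r ∨ Prim (p ^ f) 6 r → ∀ x : S, orderOf x = r →
        Group.IsNilpotent (Subgroup.centralizer ({x} : Set S)) := by
      intro r hr x hx
      have := (hbig r hr).1 x hx
      let _ := IsCyclic.commGroup (α := ↥(Subgroup.centralizer ({x} : Set S)))
      infer_instance
    have h1 := mod6 hq2 (Or.inl hr)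
    have h2 := mod6 hq2 (Or.inr hs)
    have hne : r ≠ s := by
      rintro rfl
      have h3 := (hs.dvd_iff 3).1 ((hr.dvd_iff 3).2 dvd_rfl)
      revert h3
      decide
    rcases Nat.lt_or_gt_of_ne hne with h | h
    · exact Cfsg.Agent.H290.ElRich.not_alt hr.prime hs.prime (by omega) (by omega) (by omega) Φ
        (hbig r (Or.inl hr)).2 (hbig s (Or.inr hs)).2 (hnil r (Or.inl hr))
    · exact Cfsg.Agent.H290.ElRich.not_alt hs.prime hr.prime (by omega) (by omega) (by omega) Φ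
        (hbig s (Or.inr hs)).2 (hbig r (Or.inl hr)).2 (hnil s (Or.inr hs))
  · exfalso
    have h1 := Cfsg.Agent.H192.Singer.spor_mem hsp
    have h2 : Nat.card S = ordN g := hgS.ord
    exact no_spor_g2 h1 hq3 hodd (by rw [← h2]; exact hab) (by rw [← h2]; exact hd)
  · by_cases hpl : p = l
    · subst hpl
      rcases Cfsg.Agent.H325.Same.charp_g2 hp hf (fun h => hp2 h.1) hgS.cond hch hgS.eq hd
        (fun s hs _ => (hbig s (Or.inl hs)).2) (fun s hs _ => (hbig s (Or.inr hs)).2) with h1 | h1 | h1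
      · subst h1
        left
        have h2 := hgS.eq
        rw [show den (.g2 (p ^ f)) = 1 from rfl, one_mul] at h2
        exact h2
      · subst h1
        right
        have h2 : 2 ≤ p ^ (3 * f) := hp.two_le.trans (Nat.le_self_pow (by omega) p)
        rw [psl2_ord h2 (fun h => hp2 ((Nat.prime_dvd_prime_iff_eq Nat.prime_two hp).1
          (Nat.prime_two.dvd_of_dvd_pow h)).symm) hgS]
        have e1 : p ^ (3 * f) = (p ^ f) ^ 3 := by rw [← pow_mul, mul_comm]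
        rw [e1, ← pow_mul (p ^ f) 3 2]
      · exact absurd h1.1 hp2
    · exfalso
      obtain ⟨X, f₁, h1, h2, -⟩ := exists_lie hl hgS hch
      have hlF : (l : F) ≠ 0 := by
        intro h
        exact hpl ((Nat.prime_dvd_prime_iff_eq hp hl).1 ((CharP.cast_eq_zero_iff F p l).1 h))
      have h3 := lb_le hna' (by norm_num) hrep h1 hgS.real h2 hlF
      refine no_cross_g2 h2 h3 hq3 hodd ?_ hab hd h32
      rintro rfl h4
      exact hpl ((Nat.prime_dvd_prime_iff_eq Nat.prime_three hp).1 (Nat.prime_three.dvd_of_dvd_pow h4)).symm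

/-- the family -/
def BG (q : ℕ) : ℕ → ℕ → ℕ → Prop := fun r m e =>
  e = 6 ∧ (Prim q 3 r ∧ m = q ^ 2 + q + 1 ∨ Prim q 6 r ∧ m = q ^ 2 - q + 1)

theorem prBG {q r : ℕ} : Pr (BG q) r ↔ Prim q 3 r ∨ Prim q 6 r := by
  constructor
  · rintro ⟨_, _, -, h | h⟩
    · exact Or.inl h.1
    · exact Or.inr h.1
  · rintro (h | h)
    · exact ⟨_, _, rfl, Or.inl ⟨h, rfl⟩⟩
    · exact ⟨_, _, rfl, Or.inr ⟨h, rfl⟩⟩

theorem fth_G2 {F : Type} [Field F] : Fth 14 F ↥(Lie.chevG2.group F) := by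
  have h := Fth.of (ρ := (Lie.chevG2.group F).subtype) (Lie.chevG2.group F).subtype_injective
  have h1 : Fintype.card Lie.chevG2.Idx = 14 := by decide
  rwa [h1] at h

variable {F : Type} [Field F] [Fintype F]

/-- **Subgroups of odd index of `G₂(q)` containing the tori of the classes 3 and 6.** -/
theorem k_g2_odd (tb : OrderTable.{0}) (hkn : ∀ (S : Type) [Group S] [Finite S], IsSimpleGroup S → IsKnownSimple' S)
    (hE : CycFixSolv.{0}) (hp : p.Prime) (hp2 : p ≠ 2) (hf : 1 ≤ f) (hF : Fintype.card F = p ^ f)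
    (hpiso : ∀ r, Prim (p ^ f) 3 r → PIso p r ↥(chevG2.group F))
    (M : Subgroup ↥(chevG2.group F)) (hodd : Odd M.index)
    (hM : ∀ r, Prim (p ^ f) 3 r ∨ Prim (p ^ f) 6 r → ¬ r ∣ M.index) : M = ⊤ := by
  have hp3 : 3 ≤ p := by have := hp.two_le; omega
  have hq3 : 3 ≤ p ^ f := hp3.trans (Nat.le_self_pow (by omega) p)
  have hq2 : 2 ≤ p ^ f := by omega
  have hq1 : 1 ≤ p ^ f := by omega
  have h2q : ¬ 2 ∣ p ^ f := fun h =>
    hp2 ((Nat.prime_dvd_prime_iff_eq Nat.prime_two hp).1 (Nat.prime_two.dvd_of_dvd_pow h)).symm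
  have : Fact p.Prime := ⟨hp⟩
  have : CharP F p := charP_of_card_eq_prime_pow hF
  have hle : p ^ f ≤ (p ^ f) ^ 2 := Nat.le_self_pow (by norm_num) _
  have hcard : Nat.card ↥(chevG2.group F) = og (p ^ f) := by
    have h1 := ord_G2 hF
    have h3 : ((og (p ^ f) : ℕ) : ℤ) = ((p ^ f : ℕ) : ℤ) ^ 6 * (((p ^ f : ℕ) : ℤ) ^ 2 - 1) * (((p ^ f : ℕ) : ℤ) ^ 6 - 1) := by
      unfold og
      rw [Nat.cast_mul, Nat.cast_mul, Nat.cast_sub (Nat.one_le_pow _ _ hq1), Nat.cast_sub (Nat.one_le_pow _ _ hq1)]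
      push_cast
      ring
    exact_mod_cast h1.trans h3.symm
  have h8 := eight_dvd h2q
  have h8' : 8 ∣ (p ^ f) ^ 6 - 1 := by
    have h4 : (p ^ f) ^ 2 - 1 ∣ (p ^ f) ^ 6 - 1 := by
      have := Nat.sub_dvd_pow_sub_pow ((p ^ f) ^ 2) 1 3
      rwa [one_pow, ← pow_mul (p ^ f) 2 3] at this
    exact h8.trans h4
  have h64M : 2 ^ 6 ∣ Nat.card M := by
    have h64 : 2 ^ 6 ∣ Nat.card ↥(chevG2.group F) := by
      rw [hcard]
      exact (Nat.mul_dvd_mul h8 h8').mul_left _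
    rw [← M.card_mul_index] at h64
    exact (Nat.Coprime.pow_left 6 ((Nat.coprime_two_left).2 hodd)).dvd_of_dvd_mul_right h64
  have hbig3 : ∀ r, Prim (p ^ f) 3 r → Big ↥(chevG2.group F) r ((p ^ f) ^ 2 + p ^ f + 1) 6 := fun r hr =>
    big_G2_3 hF (by push_cast; ring) hr
  have hbig6 : ∀ r, Prim (p ^ f) 6 r → Big ↥(chevG2.group F) r ((p ^ f) ^ 2 - p ^ f + 1) 6 := fun r hr =>
    big_G2_6 hF (by push_cast [Nat.cast_sub hle]; ring) hr
  have hdvd3 : n3 (p ^ f) ∣ Nat.card ↥(chevG2.group F) := by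
    rw [hcard]
    refine Dvd.dvd.mul_left (Dvd.dvd.mul_left ?_ _) _
    refine n3_dvd.trans ⟨((p ^ f) ^ 3 + 1) * (p ^ f - 1), ?_⟩
    have h4 : 1 ≤ (p ^ f) ^ 6 := Nat.one_le_pow _ _ hq1
    zify [h4, hq1]
    ring
  have hdvd6 : n6 (p ^ f) ∣ Nat.card ↥(chevG2.group F) := by
    rw [hcard]
    refine Dvd.dvd.mul_left (Dvd.dvd.mul_left ?_ _) _
    refine n6_dvd.trans ⟨((p ^ f) ^ 3 - 1) * (p ^ f + 1), ?_⟩
    have h4 : 1 ≤ (p ^ f) ^ 6 := Nat.one_le_pow _ _ hq1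
    have h5 : 1 ≤ (p ^ f) ^ 3 := Nat.one_le_pow _ _ hq1
    zify [h4, h5, hle]
    ring
  have hcop3 : ∀ {n : ℕ}, (∀ r, Prim (p ^ f) 3 r ∨ Prim (p ^ f) 6 r → ¬ r ∣ n) → (n3 (p ^ f)).Coprime n := by
    intro n hn
    exact Nat.coprime_of_dvd fun k hk h1 h2 => hn k (Or.inl (prim3 hq1 hk h1)) h2
  have hcop6 : ∀ {n : ℕ}, (∀ r, Prim (p ^ f) 3 r ∨ Prim (p ^ f) 6 r → ¬ r ∣ n) → (n6 (p ^ f)).Coprime n := by
    intro n hn
    exact Nat.coprime_of_dvd fun k hk h1 h2 => hn k (Or.inr (prim6 hq1 hk h1)) h2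
  have hd3M : n3 (p ^ f) ∣ Nat.card M := by
    rw [← Subgroup.card_mul_index M] at hdvd3
    exact (hcop3 hM).dvd_of_dvd_mul_right hdvd3
  have hd6M : n6 (p ^ f) ∣ Nat.card M := by
    rw [← Subgroup.card_mul_index M] at hdvd6
    exact (hcop6 hM).dvd_of_dvd_mul_right hdvd6
  have hrM : ∀ r, Prim (p ^ f) 3 r ∨ Prim (p ^ f) 6 r → r ∣ Nat.card M := by
    rintro r (hr | hr)
    · exact (dvd_n3 hq1 hr).trans hd3M
    · exact (dvd_n6 hq1 hr).trans hd6M
  obtain ⟨r₀, hr₀⟩ := exists_prim hq2 (show 3 ≤ 3 by omega) (by omega)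
  -- free actions
  have hfree3 : ∀ t : ℕ, t.Prime → ¬ t ∣ (p ^ f) ^ 2 + p ^ f + 1 → Free ↥(chevG2.group F) t (n3 (p ^ f)) := by
    intro t ht hnt x hx hxm a hat hc
    have h1 : Prim (p ^ f) 3 (orderOf x) := prim3 hq1 hx hxm
    have h2 := (hbig3 _ h1).card x rfl
    have h3 : a ∈ Subgroup.centralizer ({x} : Set ↥(chevG2.group F)) := by
      rw [Subgroup.mem_centralizer_singleton_iff]; exact hc.symm
    have h4 : orderOf a ∣ (p ^ f) ^ 2 + p ^ f + 1 := by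
      refine dvd_trans ?_ h2
      rw [← Subgroup.orderOf_mk a h3]
      exact orderOf_dvd_natCard _
    have h5 : orderOf a ∣ t := orderOf_dvd_of_pow_eq_one hat
    rcases (Nat.dvd_prime ht).1 h5 with h6 | h6
    · exact orderOf_eq_one_iff.1 h6
    · exact absurd (h6 ▸ h4) hnt
  have hfree6 : ∀ t : ℕ, t.Prime → ¬ t ∣ (p ^ f) ^ 2 - p ^ f + 1 → Free ↥(chevG2.group F) t (n6 (p ^ f)) := by
    intro t ht hnt x hx hxm a hat hc
    have h1 : Prim (p ^ f) 6 (orderOf x) := prim6 hq1 hx hxm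
    have h2 := (hbig6 _ h1).card x rfl
    have h3 : a ∈ Subgroup.centralizer ({x} : Set ↥(chevG2.group F)) := by
      rw [Subgroup.mem_centralizer_singleton_iff]; exact hc.symm
    have h4 : orderOf a ∣ (p ^ f) ^ 2 - p ^ f + 1 := by
      refine dvd_trans ?_ h2
      rw [← Subgroup.orderOf_mk a h3]
      exact orderOf_dvd_natCard _
    have h5 : orderOf a ∣ t := orderOf_dvd_of_pow_eq_one hat
    rcases (Nat.dvd_prime ht).1 h5 with h6 | h6
    · exact orderOf_eq_one_iff.1 h6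
    · exact absurd (h6 ▸ h4) hnt
  have hnot3 : ∀ t : ℕ, t.Prime → t ≠ 3 → ¬ Prim (p ^ f) 3 t → ¬ t ∣ (p ^ f) ^ 2 + p ^ f + 1 := by
    intro t ht ht3 hnt h
    rw [← n3_mul] at h
    rcases ht.dvd_mul.1 h with h1 | h1
    · exact hnt (prim3 hq1 ht h1)
    · exact ht3 ((Nat.prime_dvd_prime_iff_eq ht Nat.prime_three).1 (h1.trans (Nat.gcd_dvd_left _ _)))
  have hnot6 : ∀ t : ℕ, t.Prime → t ≠ 3 → ¬ Prim (p ^ f) 6 t → ¬ t ∣ (p ^ f) ^ 2 - p ^ f + 1 := by
    intro t ht ht3 hnt h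
    rw [← n6_mul] at h
    rcases ht.dvd_mul.1 h with h1 | h1
    · exact hnt (prim6 hq1 ht h1)
    · exact ht3 ((Nat.prime_dvd_prime_iff_eq ht Nat.prime_three).1 (h1.trans (Nat.gcd_dvd_left _ _)))
  let τ : ↥M →* Matrix.GeneralLinearGroup chevG2.Idx F := (chevG2.group F).subtype.comp M.subtype
  have hτ : Function.Injective τ := (chevG2.group F).subtype_injective.comp M.subtype_injective
  have hcI : Fintype.card chevG2.Idx = 14 := by decide
  have hred : Red M (Pr (BG (p ^ f))) := by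
    refine red_of hE (p := p) hτ
      (pcore_of_piso ((hpiso r₀ hr₀).sub M) (hrM _ (Or.inl hr₀))) (prBG.2 (Or.inl hr₀)) hr₀.prime (hrM _ (Or.inl hr₀))
      ((hbig3 _ hr₀).subgroup M).cyc ?_
    intro t ht htp hnt _
    have hn3 : ¬ Prim (p ^ f) 3 t := fun h => hnt (prBG.2 (Or.inl h))
    have hn6 : ¬ Prim (p ^ f) 6 t := fun h => hnt (prBG.2 (Or.inr h))
    rw [hcI]
    by_cases ht3 : t = 3
    · subst ht3
      have h5 : 5 ≤ p ^ f := by
        have h6 : p ^ f ≠ 3 := fun h => htp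
          ((Nat.prime_dvd_prime_iff_eq Nat.prime_three hp).1 (Nat.prime_three.dvd_of_dvd_pow (dvd_of_eq h.symm)))
        omega
      by_cases h33 : 3 ∣ (p ^ f) ^ 2 + p ^ f + 1
      · have h36 : ¬ 3 ∣ (p ^ f) ^ 2 - p ^ f + 1 := fun h36 => by
          have := Nat.dvd_gcd h33 h36
          rw [Nat.coprime_iff_gcd_eq_one.1 (coprime36 (p ^ f))] at this
          revert this; decide
        have h7 : 7 ≤ p ^ f := by
          have h8 : p ^ f ≠ 5 := fun h => by rw [h] at h33; revert h33; decide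
          omega
        exact ⟨n6 (p ^ f), hd6M, (hfree6 3 ht h36).subgroup M, Or.inl (n6_gt h7)⟩
      · exact ⟨n3 (p ^ f), hd3M, (hfree3 3 ht h33).subgroup M, Or.inl (n3_gt h5 h2q)⟩
    · refine ⟨n3 (p ^ f) * n6 (p ^ f), mul_dvd hd3M hd6M, ?_, Or.inl ?_⟩
      · intro x hx hxm a hat hc
        rcases hx.dvd_mul.1 hxm with h1 | h1
        · exact (hfree3 t ht (hnot3 t ht ht3 hn3)).subgroup M x hx h1 a hat hc
        · exact (hfree6 t ht (hnot6 t ht ht3 hn6)).subgroup M x hx h1 a hat hc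
      · have h1 := Nat.mul_le_mul (n3_ge hq3 h2q) (n6_ge hq3 h2q)
        omega
  -- the family
  have hoddm : ∀ m, m = (p ^ f) ^ 2 + p ^ f + 1 ∨ m = (p ^ f) ^ 2 - p ^ f + 1 → Odd m := by
    obtain ⟨k, hk⟩ : ∃ k, p ^ f = 2 * k + 1 := ⟨p ^ f / 2, by omega⟩
    obtain ⟨c, hc⟩ : ∃ c, k * (k + 1) = c + c := Nat.even_mul_succ_self k
    rintro m (rfl | rfl)
    · rw [hk]
      exact ⟨(2 * k + 1) * (k + 1), by ring⟩
    · rw [hk]
      refine ⟨(2 * k + 1) * k, ?_⟩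
      have h1 : (2 * k + 1) ^ 2 - (2 * k + 1) = (2 * k + 1) * (2 * k) := by
        refine Nat.sub_eq_of_eq_add ?_
        ring
      rw [h1]
      ring
  have hfam : RFam M (BG (p ^ f)) := by
    refine ⟨?_, ?_, ?_⟩
    · rintro r m e ⟨rfl, ⟨hr, rfl⟩ | ⟨hr, rfl⟩⟩
      · exact (hbig3 r hr).subgroup M
      · exact (hbig6 r hr).subgroup M
    · rintro r m e ⟨rfl, ⟨hr, rfl⟩ | ⟨hr, rfl⟩⟩
      · exact hrM r (Or.inl hr)
      · exact hrM r (Or.inr hr)
    · rintro r m e ⟨rfl, hm⟩ hcon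
      have hm' : Odd m := hoddm m (hm.imp And.right And.right)
      have h1 : 2 ^ 6 ∣ 6 := (Nat.Coprime.pow_left 6 ((Nat.coprime_two_left).2 hm')).dvd_of_dvd_mul_right
        (h64M.trans hcon)
      revert h1; decide
  obtain ⟨S, hSn, hs, hna, hall⟩ := hfam.exists_full hE hred (r₁ := r₀) ⟨rfl, Or.inl ⟨hr₀, rfl⟩⟩
  have hall3 := fun r hr => hall r _ _ ⟨rfl, Or.inl ⟨hr, rfl⟩⟩
  have hall6 := fun r hr => hall r _ _ ⟨rfl, Or.inr ⟨hr, rfl⟩⟩
  have hnS : ∀ r, Prim (p ^ f) 3 r ∨ Prim (p ^ f) 6 r → ¬ r ∣ S.index := by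
    rintro r (hr | hr)
    · exact (hall3 r hr).2.2.1
    · exact (hall6 r hr).2.2.1
  obtain ⟨r₆, hr₆⟩ := exists_prim hq2 (show 3 ≤ 6 by omega) (by omega)
  have hidx : S.index ∣ 6 := by
    have h1 := (hall3 r₀ hr₀).2.2.2
    have h2 := (hall6 r₆ hr₆).2.2.2
    have h3 := Nat.dvd_gcd h1 h2
    rwa [Nat.gcd_mul_left, Nat.coprime_iff_gcd_eq_one.1 (coprime36 (p ^ f)), mul_one] at h3
  have ha : n3 (p ^ f) ∣ Nat.card S := by
    rw [← Subgroup.card_mul_index S] at hd3M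
    exact (hcop3 hnS).dvd_of_dvd_mul_right hd3M
  have hb : n6 (p ^ f) ∣ Nat.card S := by
    rw [← Subgroup.card_mul_index S] at hd6M
    exact (hcop6 hnS).dvd_of_dvd_mul_right hd6M
  have h32 : 32 ∣ Nat.card S := by
    have h1 : 2 ^ 6 ∣ Nat.card S * 6 := h64M.trans (by
      rw [← Subgroup.card_mul_index S]
      exact Nat.mul_dvd_mul_left _ hidx)
    omega
  have hSM : Nat.card S ∣ Nat.card M := Subgroup.card_subgroup_dvd_card S
  have hMG : Nat.card M ∣ og (p ^ f) := hcard ▸ Subgroup.card_subgroup_dvd_card M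
  have hrep : Fth 14 F S := (fth_G2.sub M.subtype M.subtype_injective).sub S.subtype S.subtype_injective
  rcases ident_G2 tb hp hp2 hf hna (hkn S hs) hrep (by
      rintro r (hr | hr)
      · exact ⟨(hall3 r hr).1.cyc, (hall3 r hr).2.1⟩
      · exact ⟨(hall6 r hr).1.cyc, (hall6 r hr).2.1⟩) ha hb h32 (hSM.trans hMG) with hcS | hcS
  · apply Subgroup.eq_top_of_card_eq
    apply Nat.dvd_antisymm (Subgroup.card_subgroup_dvd_card M)
    rw [hcard, ← hcS]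
    exact hSM
  · exfalso
    -- the 2-part of `PSL₂(q³)` is too small
    have h1 : Nat.card M ∣ 3 * ((p ^ f) ^ 3 * ((p ^ f) ^ 6 - 1)) := by
      rw [← hcS, ← Subgroup.card_mul_index S]
      obtain ⟨c, hc⟩ := hidx
      refine ⟨c, ?_⟩
      calc 3 * (2 * Nat.card S) = Nat.card S * 6 := by ring
        _ = Nat.card S * (S.index * c) := by rw [← hc]
        _ = Nat.card S * S.index * c := by ring
    have h2 : og (p ^ f) ∣ 3 * ((p ^ f) ^ 3 * ((p ^ f) ^ 6 - 1)) * M.index := by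
      rw [← hcard, ← M.card_mul_index]
      exact Nat.mul_dvd_mul_right h1 _
    have hpos : 0 < (p ^ f) ^ 6 - 1 := by
      have : 1 < (p ^ f) ^ 6 := Nat.one_lt_pow (by norm_num) (by omega)
      omega
    have h3 : (p ^ f) ^ 6 * ((p ^ f) ^ 2 - 1) ∣ 3 * (p ^ f) ^ 3 * M.index := by
      apply Nat.dvd_of_mul_dvd_mul_right hpos
      have e1 : (p ^ f) ^ 6 * ((p ^ f) ^ 2 - 1) * ((p ^ f) ^ 6 - 1) = og (p ^ f) := by unfold og; ring
      have e2 : 3 * (p ^ f) ^ 3 * M.index * ((p ^ f) ^ 6 - 1) = 3 * ((p ^ f) ^ 3 * ((p ^ f) ^ 6 - 1)) * M.index := by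
        ring
      rw [e1, e2]
      exact h2
    have h4 : 2 ∣ 3 * (p ^ f) ^ 3 * M.index :=
      (((by norm_num : (2 : ℕ) ∣ 8).trans h8).mul_left _).trans h3
    have h5 : Odd (3 * (p ^ f) ^ 3 * M.index) := by
      refine Odd.mul (Odd.mul (by decide) (Odd.pow ?_)) hodd
      rw [← Nat.not_even_iff_odd, even_iff_two_dvd]
      exact h2q
    rw [← Nat.not_even_iff_odd, even_iff_two_dvd] at h5
    exact h5 h4

end Cfsg.Agent.H177.OM
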