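import Cfsg.Agent.H190.Odd.Real
import Cfsg.Agent.H129.DataG2

/-!
# TEAM ODDM (S4785): `G₂(q)`: reality of the elements of the tori of classes 3 and 6

* `untw_inv` : the cyclic tori of the untwisted groups are inverted if `-1` is in the Weyl group (and `d = 1`);
* `off_g2_3`, `off_g2_6` : a subgroup of `G₂(q)` meeting all real classes has index prime to the primes of the classes
  3 and 6.
-/

set_option autoImplicit false
set_option linter.unusedSectionVars false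

namespace Cfsg.Agent.H177.OM

open CoxeterSystem Cfsg Cfsg.Lie Cfsg.Lie.ChevalleyDatum
open Cfsg.Agent.ChevalleyStructure Cfsg.Agent.ChevalleyStructure.Elts Cfsg.Agent.ChevalleyStructure.CoxeterGeom
  Cfsg.Agent.ChevalleyStructure.CoxeterGeomTypes Cfsg.Agent.ChevalleyStructure.NPerm
open Cfsg.Agent.Tits.Roots Cfsg.Agent.Tits.Core Cfsg.Agent.Nodes Cfsg.Agent.Nodes.Reps Cfsg.Agent.Nodes.BNOf
  Cfsg.Agent.Nodes.RGDChev Cfsg.Agent.Nodes.Bruhat Cfsg.Agent.Nodes.SubComb Cfsg.Agent.Nodes.Coroot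
open Cfsg.Agent.KFacts.RgdField Cfsg.Agent.KFacts.RgdChevCoord Cfsg.Agent.BpExc.TorCent Cfsg.Agent.BpExc.TorChev
open Cfsg.Agent.GpExc.Field Cfsg.Agent.BpExc.Tow Cfsg.Agent.BpExc.TowChev Cfsg.Agent.BpExc.Fr
  Cfsg.Agent.BpExc.LangFr Cfsg.Agent.LangThm Cfsg.Agent.BpExc Cfsg.Agent.H129.TorusChar Cfsg.Agent.H129.TorusCent
  Cfsg.Agent.H129.TorusTw Cfsg.Agent.H129.TorusMain Cfsg.Agent.H129.TorusUntw Cfsg.Agent.H129.TorAct
  Cfsg.Agent.H129.WData Cfsg.Agent.H129.UntwTwo Cfsg.Agent.H129 Cfsg.Agent.H129.RealT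
open Cfsg.Agent.H436 (Prim)
open Cfsg.Agent.H453.OddM (IsReal)

universe u

section

variable {D : ChevalleyDatum} {l : ℕ} {M : CoxeterMatrix (Fin l)} (hp : IsType D l M)
  {W : Type*} [Group W] (cs : CoxeterSystem M W)

include hp cs in
/-- `-1` from its matrix -/
theorem rep_neg {A : Mat l} (hA : ∀ i j, A i j = cartanOf D l i j) {L : List (Fin l × Mat l)} (hL : ChainOK A L)
    (h : ∀ j m, hd L j m = if j = m then -1 else 0) (x : Fin l → ℤ) :
    rep cs hp.isCartan (cs.wordProd (L.map Prod.fst)) x = -x := by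
  have h1 : ∀ j, rep cs hp.isCartan (cs.wordProd (L.map Prod.fst)) (sr j) = -sr j := by
    intro j
    rw [chain_rep hp cs hA hL]
    funext m
    rw [h, Pi.neg_apply]
    by_cases hm : j = m
    · subst hm; rw [if_pos rfl, sr_self]
    · rw [if_neg hm, sr_ne (Ne.symm hm), neg_zero]
  conv_lhs => rw [IsMC.eq_sum_sr x]
  conv_rhs => rw [IsMC.eq_sum_sr x]
  rw [map_sum, ← Finset.sum_neg_distrib]
  exact Finset.sum_congr rfl fun j _ => by rw [map_zsmul, h1, smul_neg]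

include hp cs in
/-- **The cyclic tori of the untwisted groups are inverted if `-1` is in the Weyl group.** -/
theorem untw_inv [Finite W] (hl : 0 < l) {F : Type u} [Field F] [Fintype F] {q : ℕ} (hq : Fintype.card F = q)
    {B' : Fin l → Fin l → ℤ} (hB : InvC D l 1 B')
    {A : Mat l} (hA : ∀ i j, A i j = cartanOf D l i j) {L : List (Fin l × Mat l)} (hL : ChainOK A L)
    {V B : Mat l} {c : Fin l → ℤ} (hcyc : CycOK l (hd L) V B c) {m : ℕ} {R : Fin m → Fin l → ℤ} {prv dep : ℕ → ℕ}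
    (hR : RootOK D l (hd L) R prv dep) {N : ℕ} (hfN : fN c (q : ℤ) = N) (hqN : q.Coprime N)
    {v : W} (hv : ∀ x, rep cs hp.isCartan v x = -x) :
    ∃ T : Subgroup ↥(D.group F), IsCyclic ↥T ∧ Nat.card ↥T = N ∧
      (∀ r : ℕ, r.Prime → ¬ r ∣ Nat.card W → (∀ s, ¬ (r : ℤ) ∣ Gq B (q : ℤ) (R s)) → ∀ y ∈ T, orderOf y = r →
        Subgroup.centralizer {y} ≤ T) ∧
      (∀ r : ℕ, r.Prime → r ∣ N → ¬ r ∣ Nat.card W → (∀ s, ¬ (r : ℤ) ∣ Gq B (q : ℤ) (R s)) →
        ∃ y : ↥(D.group F), ∀ b ∈ T, y * b * y⁻¹ = b⁻¹) := by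
  have hlin := lin_refl hp cs hA hL
  have hc := cyc_of hlin hcyc
  obtain ⟨p, e, hpF, hpc, hpk, he, rfl, hk⟩ := exists_closure hq
  have hpN : ¬ p ∣ N := fun h1 => by
    have h2 : p ∣ Nat.gcd (p ^ e) N := Nat.dvd_gcd (dvd_pow_self p he.ne') h1
    rw [hqN] at h2
    exact hpF.out.one_lt.ne' (Nat.dvd_one.1 h2)
  have hN0 : N ≠ 0 := fun h0 => hpN (by rw [h0]; exact dvd_zero p)
  have hd : ∀ y : ↥(D.group (AlgebraicClosure F)), phi D (AlgebraicClosure F) p e y = y →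
      y ^ 1 ∈ (emb hp.inList (algebraMap F (AlgebraicClosure F))).range := fun y hy =>
    fix_pow_range hp cs _ hq hB one_ne_zero hy
  obtain ⟨T, h1, h2, h3, h4, h5, -⟩ := exists_T (k := AlgebraicClosure F) (hp := hp) (cs := cs) hl hk
    (hN := nsys_of_locFin hp cs hk p) he isFrob_phi (fr_phi hp cs) hB one_ne_zero
    (w := cs.wordProd (L.map Prod.fst)) hc hfN hpN
    (e0 := emb hp.inList (algebraMap F (AlgebraicClosure F))) (emb_injective hp.inList _) (phi_emb hp _ hq) hd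
  have hgood : ∀ r : ℕ, r.Prime → r ∣ N → (∀ s, ¬ (r : ℤ) ∣ Gq B ((p ^ e : ℕ) : ℤ) (R s)) →
      ∀ a, IsRoot cs hp.isCartan a → ¬ (r : ℤ) ∣ Gq B ((p ^ e : ℕ) : ℤ) a := fun r hr hrN hG a ha =>
    not_dvd_G hp cs hlin hc hR hfN hr hrN hqN hG ha
  rw [one_mul] at h3
  have hcard : Nat.card ↥T = N := Nat.dvd_antisymm h2 h3
  refine ⟨T, h1, hcard, ?_, ?_⟩
  · intro r hr hrW hG y hy hyr
    have hrN : r ∣ N := by
      rw [← hyr, ← hcard]
      have := orderOf_dvd_natCard (⟨y, hy⟩ : ↥T)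
      rwa [Subgroup.orderOf_mk] at this
    exact h4 r hr hrW (hgood r hr hrN hG) y hy hyr
  · intro r hr hrN hrW hG
    obtain ⟨y, hy⟩ := h5 r hr hrN hrW (hgood r hr hrN hG) v (N - 1)
      (fun x => by rw [hv, hv, map_neg]) (fun x => by
        rw [hv]
        have e1 : Gq B ((p ^ e : ℕ) : ℤ) (-x) - ((N - 1 : ℕ) : ℤ) * Gq B ((p ^ e : ℕ) : ℤ) x =
            (N : ℤ) * (-Gq B ((p ^ e : ℕ) : ℤ) x) := by
          rw [Nat.cast_sub (Nat.one_le_iff_ne_zero.2 hN0)]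
          have e2 : Gq B ((p ^ e : ℕ) : ℤ) (-x) = -Gq B ((p ^ e : ℕ) : ℤ) x := by
            unfold Gq
            simp [Finset.sum_neg_distrib]
          rw [e2]
          push_cast
          ring
        rw [e1]
        exact dvd_mul_right _ _)
    refine ⟨y, fun b hb => ?_⟩
    have h6 := hy b⁻¹ (inv_mem hb)
    rw [pow_one] at h6
    have h7 : b⁻¹ ^ (N - 1) = b := by
      rw [inv_pow]
      refine inv_eq_of_mul_eq_one_left ?_
      rw [← pow_succ', Nat.sub_add_cancel (Nat.one_le_iff_ne_zero.2 hN0)]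
      refine orderOf_dvd_iff_pow_eq_one.1 ?_
      rw [← hcard, ← Subgroup.orderOf_mk b hb]
      exact orderOf_dvd_natCard _
    rwa [h7] at h6

end

/-- the longest element of `W(G₂)` -/
def chainG2 : List (Fin 2 × Mat 2) := (0, ![![-1, 0], ![0, -1]]) :: (1, ![![1, 0], ![-3, -1]]) :: DataG2.chain

theorem chainG2_ok : ChainOK DataG2.Am chainG2 := by decide +kernel

theorem chainG2_hd : ∀ j m, hd chainG2 j m = if j = m then -1 else 0 := by decide +kernel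

variable {F : Type u} [Field F] [Fintype F] {q : ℕ}

theorem card_W_G2 : Nat.card CoxeterMatrix.G₂.Group = 12 :=
  Cfsg.Agent.S1092.result (⟨2, CoxeterMatrix.G₂⟩, 12) (by simp)

theorem not_dvd_W_G2 {r : ℕ} (hr : r.Prime) (h : 3 < r) : ¬ r ∣ Nat.card CoxeterMatrix.G₂.Group := by
  rw [card_W_G2]
  intro h1
  have h2 : (12 : ℕ) = 2 ^ 2 * 3 := by norm_num
  rw [h2] at h1
  rcases (Nat.Prime.dvd_mul hr).1 h1 with h1 | h1
  · have := Nat.le_of_dvd (by norm_num) (hr.dvd_of_dvd_pow h1)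
    omega
  · have := Nat.le_of_dvd (by norm_num) h1
    omega

theorem phi3 {r : ℕ} (h : Prim q 3 r) (hq : 1 ≤ q) : r ∣ q ^ 2 + q + 1 := by
  have h1 := (h.dvd_iff 3).2 dvd_rfl
  have h2 : q ^ 3 - 1 = (q - 1) * (q ^ 2 + q + 1) := by
    obtain ⟨m, rfl⟩ := Nat.exists_eq_add_of_le' hq
    rw [Nat.add_sub_cancel, Nat.sub_eq_of_eq_add]
    ring
  rw [h2] at h1
  refine (h.prime.dvd_mul.1 h1).resolve_left fun h3 => ?_
  have h4 := (h.dvd_iff 1).1 (by rwa [pow_one])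
  revert h4
  decide

theorem phi6 {r : ℕ} (h : Prim q 6 r) (hq : 1 ≤ q) : r ∣ q ^ 2 - q + 1 := by
  have h1 := (h.dvd_iff 6).2 dvd_rfl
  have hle : q ≤ q ^ 2 := Nat.le_self_pow (by norm_num) q
  have h2 : (q ^ 6 - 1) = (q ^ 3 - 1) * ((q + 1) * (q ^ 2 - q + 1)) := by
    have h4 : 1 ≤ q ^ 3 := Nat.one_le_pow _ _ hq
    have h5 : 1 ≤ q ^ 6 := Nat.one_le_pow _ _ hq
    zify [h4, h5, hle]
    ring
  rw [h2] at h1
  have h3 : ¬ r ∣ q ^ 3 - 1 := fun h3 => by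
    have h4 := (h.dvd_iff 3).1 h3
    revert h4
    decide
  have h5 := (h.prime.dvd_mul.1 h1).resolve_left h3
  refine (h.prime.dvd_mul.1 h5).resolve_left fun h6 => ?_
  have h7 : r ∣ q ^ 2 - 1 := by
    have h8 : q ^ 2 - 1 = (q + 1) * (q - 1) := by
      obtain ⟨m, rfl⟩ := Nat.exists_eq_add_of_le' hq
      rw [Nat.add_sub_cancel, Nat.sub_eq_of_eq_add]
      ring
    rw [h8]
    exact h6.mul_right _
  have h8 := (h.dvd_iff 2).1 h7
  revert h8
  decide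

theorem isType_G2 : IsType chevG2 2 CoxeterMatrix.G₂ := by simp

theorem finite_W_G2 : Finite CoxeterMatrix.G₂.Group := Nat.finite_of_card_ne_zero (by rw [card_W_G2]; norm_num)

/-- **`G₂(q)`, class 3.** -/
theorem off_g2_3 (hq : Fintype.card F = q) {B : Subgroup ↥(chevG2.group F)}
    (hB : ∀ x : ↥(chevG2.group F), IsReal x → ∃ g : ↥(chevG2.group F), g * x * g⁻¹ ∈ B) {r : ℕ} (h : Prim q 3 r) :
    ¬ r ∣ B.index := by
  have := finite_W_G2
  have hq2 : 2 ≤ q := by rw [← hq]; exact Fintype.one_lt_card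
  have hN : ((q ^ 2 + q + 1 : ℕ) : ℤ) = 1 + (q : ℤ) + (q : ℤ) ^ 2 := by push_cast; ring
  have hrN := phi3 h (by omega)
  have hg := Cfsg.Agent.H190.Exc.prim_gt h (by omega)
  obtain ⟨T, h1, h3, h4, h5⟩ := untw_inv isType_G2 CoxeterMatrix.G₂.toCoxeterSystem (by norm_num) hq
    TorusChar.invC_G2 DataG2.hA DataG2.chainOK DataG2.cycOK DataG2.rootOK (N := q ^ 2 + q + 1)
    (by rw [DataG2.fN_eq, hN]) (UntwData.coprime_of_eq (a := (q : ℤ) + 1) (by rw [hN]; ring))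
    (rep_neg isType_G2 CoxeterMatrix.G₂.toCoxeterSystem DataG2.hA chainG2_ok chainG2_hd)
  have hW := not_dvd_W_G2 h.prime hg
  have hG : ∀ s, ¬ (r : ℤ) ∣ Gq DataG2.B (q : ℤ) (DataG2.R s) := fun s hs => by
    rcases DataG2.dvd_of_G (Cfsg.Agent.H129.CycT.cast_dvd hN hrN) s hs with h5 | h5
    · exact Cfsg.Agent.H129.CycT.not_one h.prime h5
    · have := Int.le_of_dvd (by norm_num) h5
      omega
  obtain ⟨y, hy⟩ := h5 r h.prime hrN hW hG
  exact Cfsg.Agent.H190.Odd.not_dvd_index h1 h.prime (by rw [h3]; exact hrN) (h4 r h.prime hW hG)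
    (fun x hx a hxa => ⟨y, hy x hx⟩) hB

/-- **`G₂(q)`, class 6.** -/
theorem off_g2_6 (hq : Fintype.card F = q) {B : Subgroup ↥(chevG2.group F)}
    (hB : ∀ x : ↥(chevG2.group F), IsReal x → ∃ g : ↥(chevG2.group F), g * x * g⁻¹ ∈ B) {r : ℕ} (h : Prim q 6 r) :
    ¬ r ∣ B.index := by
  have := finite_W_G2
  have hq2 : 2 ≤ q := by rw [← hq]; exact Fintype.one_lt_card
  have hle : q ≤ q ^ 2 := Nat.le_self_pow (by norm_num) q
  have hN : ((q ^ 2 - q + 1 : ℕ) : ℤ) = 1 - (q : ℤ) + (q : ℤ) ^ 2 := by push_cast [Nat.cast_sub hle]; ring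
  have hrN := phi6 h (by omega)
  have hg := Cfsg.Agent.H190.Exc.prim_gt h (by omega)
  obtain ⟨T, h1, h3, h4, h5⟩ := untw_inv isType_G2 CoxeterMatrix.G₂.toCoxeterSystem (by norm_num) hq
    TorusChar.invC_G2 DataG2h.hA DataG2h.chainOK DataG2h.cycOK DataG2h.rootOK (N := q ^ 2 - q + 1)
    (by rw [DataG2h.fN_eq, hN]) (UntwData.coprime_of_eq (a := (q : ℤ) - 1) (by rw [hN]; ring))
    (rep_neg isType_G2 CoxeterMatrix.G₂.toCoxeterSystem DataG2.hA chainG2_ok chainG2_hd)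
  have hW := not_dvd_W_G2 h.prime (by omega)
  have hG : ∀ s, ¬ (r : ℤ) ∣ Gq DataG2h.B (q : ℤ) (DataG2h.R s) := fun s hs => by
    rcases DataG2h.dvd_of_G (Cfsg.Agent.H129.CycT.cast_dvd hN hrN) s hs with h5 | h5
    · exact Cfsg.Agent.H129.CycT.not_one h.prime h5
    · have := Int.le_of_dvd (by norm_num) h5
      omega
  obtain ⟨y, hy⟩ := h5 r h.prime hrN hW hG
  exact Cfsg.Agent.H190.Odd.not_dvd_index h1 h.prime (by rw [h3]; exact hrN) (h4 r h.prime hW hG)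
    (fun x hx a hxa => ⟨y, hy x hx⟩) hB

end Cfsg.Agent.H177.OM
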