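import Cfsg.Agent.H177.OM.GTwoK
import Cfsg.Agent.H453.OddM.Asm
import Cfsg.Agent.H325.IsoExc

/-!
# TEAM ODDM (S4785): the row `G₂(q)`, `q` odd
-/

set_option autoImplicit false

namespace Cfsg.Agent.H177.OM

open Cfsg Cfsg.Agent.OrdDiv Cfsg.Agent.H436 Cfsg.Agent.H56.Exc Cfsg.Agent.H453.OddM Cfsg.Lie

/-- **The row `G₂(q)`, `q` odd.** -/
theorem row_g2 (tb : OrderTable.{0}) (hkn : ∀ (S : Type) [Group S] [Finite S], IsSimpleGroup S → IsKnownSimple' S)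
    (hE : CycFixSolv.{0}) (q : ℕ) (h2 : ¬ 2 ∣ q) : RowN.{0} (.g2 q) := by
  intro T _ _ _ hT
  obtain ⟨F, _, _, hF, ⟨e⟩⟩ := hT.real
  have hq : IsPrimePow q := hT.cond.2
  obtain ⟨p, f, hp, hf, rfl⟩ := (isPrimePow_nat_iff _).1 hq
  have hp2 : p ≠ 2 := by
    rintro rfl
    exact h2 (dvd_pow_self 2 (by omega))
  have hp3 : 3 ≤ p := by have := hp.two_le; omega
  have hq3 : 3 ≤ p ^ f := hp3.trans (Nat.le_self_pow (by omega) p)
  have : Fact p.Prime := ⟨hp⟩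
  have : CharP F p := charP_of_card_eq_prime_pow hF
  refine (Row.congr e.symm (fun M hM => ?_)).row8
  have hc := hM.cov
  refine k_g2_odd tb hkn hE hp hp2 hf hF (fun r hr => ?_) M hc.1 ?_
  · exact Cfsg.Agent.H325.IsoExc.piso_G2 (F := F) (p := p) (by rw [hF]; omega) (Or.inl rfl) (by rw [hF]; exact hr)
  · rintro r (hr | hr)
    · exact off_g2_3 hF hc.2 hr
    · exact off_g2_6 hF hc.2 hr

end Cfsg.Agent.H177.OM
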