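import Cfsg.Agent.H177.OM.TDFour
import Cfsg.Agent.H453.OddM.Asm
import Cfsg.Agent.H349.KD4.Main

/-!
# TEAM ODDM (S4785): the row `³D₄(q)`, `q` odd
-/

set_option autoImplicit false

namespace Cfsg.Agent.H177.OM

open Cfsg Cfsg.Agent.OrdDiv Cfsg.Agent.H436 Cfsg.Agent.H56.Exc Cfsg.Agent.H453.OddM Cfsg.Lie

/-- **The row `³D₄(q)`, `q` odd.** -/
theorem row_td4 (tb : OrderTable.{0}) (hkn : ∀ (S : Type) [Group S] [Finite S], IsSimpleGroup S → IsKnownSimple' S)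
    (hE : CycFixSolv.{0}) (q : ℕ) (h2 : ¬ 2 ∣ q) : RowN.{0} (.td4 q) := by
  intro T _ _ _ hT
  obtain ⟨K, _, _, hK, ⟨e⟩⟩ := hT.real
  have hq : IsPrimePow q := hT.cond
  obtain ⟨p, f, hp, hf, rfl⟩ := (isPrimePow_nat_iff _).1 hq
  refine (Row.congr e.symm (row_td4_of hq h2 hK fun M hM => ?_)).row8
  have hq2 : 2 ≤ p ^ f := hq.two_le
  have h1 := Cfsg.Agent.H349.KD4.kfull_TD4 tb hkn hE hp hf hK M hM
  rwa [Cfsg.Agent.H349.KD4.m_eq hq2, Cfsg.Agent.H349.KD4.ncl12] at h1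

end Cfsg.Agent.H177.OM
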